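/-
Certificate data of a coset enumeration.
-/
import Cfsg.Agent.Lib.CosetEnum.Orbit
import Cfsg.Agent.Lib.CosetEnum.Sp85.Data

set_option autoImplicit false
set_option maxRecDepth 1000000

namespace CfsgLib.CosetEnum.Sp85

open CfsgLib.CosetEnum

/-- The orbits of the subgroup. -/
def orb : Tree :=
  (.node (.node (.leaf 0x30000451000020002951000040002e21000030004451000030001042000030000f42000030001032000020002941000030001022000030001e01000040003051000030003151000040001f21000030001e41000020000a42000020000a12000020000a32000030000551000040001f51000040000731000040000711000010000622000030000531000030000511000030000421000000000002000020000321000020000241000010000141000010000101000000000001000000000000) (.leaf 0x40001451000040001651000040001251000040003c21000040002d51000030003921000020000351000050003722000030000f52000030004e21000030004441000050002b52000030003111000040003021000050003e01000040002f21000020000251000040002d21000040004821000040003351000020002911)) (.leaf 0x40002821000040000851000040000951000030003131000040004f41000040004c12000020002931000030004401000040004c32000040001a52000040000751000040004b31000030004021000050001551000020002901000030004431000030004051000030004411000030001851000040002e51000040001a22000030001052000010000151000030004041000040001742000040001732000050003511000040003311000030003941000040001712000030004e51000040004851))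

/-- The first points of the orbits. -/
def roots : List ℕ := [0, 1, 6]

theorem orbs0_ok : okOrbs table 6 hwR orb roots 0 85 = true := by decide +kernel

theorem count0 : countLab orb 0 85 = 1 := by decide +kernel

theorem count1 : countLab orb 1 85 = 64 := by decide +kernel

theorem count2 : countLab orb 2 85 = 20 := by decide +kernel


end CfsgLib.CosetEnum.Sp85
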